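import Groth.Agent.TorShiftLib.Basic
import Groth.Agent.TorBalLib.Basic

/-!
# Dimension shifting for `Tor` in the second variable
-/

set_option autoImplicit false
universe u

open CategoryTheory CategoryTheory.Limits MonoidalCategory TensorProduct

namespace KunnethCxLib

variable {A : Type u} [CommRing A]

theorem nonempty_tor_symm (n : ℕ) (M N : Type u) [AddCommGroup M] [Module A M] [AddCommGroup N] [Module A N] :
    Nonempty (DRing.Tor A n M N ≃ₗ[A] DRing.Tor A n N M) := by
  let M' := ModuleCat.of A M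
  let N' := ModuleCat.of A N
  let P := projectiveResolution M'
  obtain ⟨e⟩ := TorBalLib.nonempty_tor_iso M' N' P n
  let e' := P.isoLeftDerivedObj (tensorLeft N') n
  let mid := (HomologicalComplex.homologyFunctor (ModuleCat.{u} A) (ComplexShape.down ℕ) n).mapIso
    ((NatIso.mapHomologicalComplex (BraidedCategory.tensorLeftIsoTensorRight N') (ComplexShape.down ℕ)).app P.complex)
  exact ⟨(e ≪≫ mid.symm ≪≫ e'.symm).toLinearEquiv⟩

variable {X₁ X₂ X₃ : Type u} [AddCommGroup X₁] [Module A X₁] [AddCommGroup X₂] [Module A X₂] [Module.Flat A X₂]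
  [AddCommGroup X₃] [Module A X₃] (f : X₁ →ₗ[A] X₂) (g : X₂ →ₗ[A] X₃) (hf : Function.Injective f)
  (hg : Function.Surjective g) (he : Function.Exact f g) (N : Type u) [AddCommGroup N] [Module A N]

include hf hg he in
theorem nonempty_shift_succ_right (r : ℕ) :
    Nonempty (DRing.Tor A (r + 2) N X₃ ≃ₗ[A] DRing.Tor A (r + 1) N X₁) := by
  obtain ⟨e₁⟩ := nonempty_tor_symm (A := A) (r + 2) N X₃
  obtain ⟨e₂⟩ := TorShiftLib.nonempty_shift_succ f g hf hg he N r
  obtain ⟨e₃⟩ := nonempty_tor_symm (A := A) (r + 1) X₁ N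
  exact ⟨e₁.trans (e₂.trans e₃)⟩

include hf hg he in
theorem nonempty_shift_one_right :
    Nonempty (DRing.Tor A 1 N X₃ ≃ₗ[A] LinearMap.ker (f.lTensor N)) := by
  obtain ⟨e₁⟩ := nonempty_tor_symm (A := A) 1 N X₃
  obtain ⟨e₂⟩ := TorShiftLib.nonempty_shift_one f g hf hg he N
  let c := TensorProduct.comm A X₁ N
  have hc : ∀ t, f.lTensor N (c t) = TensorProduct.comm A X₂ N (f.rTensor N t) := fun t =>
    LinearMap.congr_fun (show f.lTensor N ∘ₗ c.toLinearMap = (TensorProduct.comm A X₂ N).toLinearMap ∘ₗ f.rTensor N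
      from TensorProduct.ext' fun x y => rfl) t
  have hk : (LinearMap.ker (f.rTensor N)).map c.toLinearMap = LinearMap.ker (f.lTensor N) := by
    refine le_antisymm ?_ fun t ht => ?_
    · rintro - ⟨t, ht, rfl⟩
      change f.lTensor N (c t) = 0
      rw [hc, LinearMap.mem_ker.1 ht, map_zero]
    · obtain ⟨t', rfl⟩ := c.surjective t
      refine ⟨t', ?_, rfl⟩
      rw [LinearMap.mem_ker, hc, LinearEquiv.map_eq_zero_iff] at ht
      exact ht
  exact ⟨e₁.trans (e₂.trans (c.submoduleMap _ |>.trans (LinearEquiv.ofEq _ _ hk)))⟩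

end KunnethCxLib
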