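import Groth.Prelude.Def_DRing2
import Mathlib

/-!
# Classes of cocycles in complexes of modules
-/

set_option autoImplicit false
universe u

open CategoryTheory CategoryTheory.Limits

namespace KunnethCxLib

variable {A : Type u} [CommRing A]

section

variable (K : CochainComplex (ModuleCat.{u} A) ℤ) (i : ℤ)

/-- Cocycles. -/
abbrev Zc : Submodule A (K.X i) := LinearMap.ker (K.d i (i + 1)).hom

/-- The inclusion of cocycles, factored through `cycles`. -/
noncomputable def toC : ModuleCat.of A (Zc K i) ⟶ K.cycles i :=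
  K.liftCycles (ModuleCat.ofHom (Zc K i).subtype) (i + 1) (by simp) (by ext x; exact x.2)

/-- The class of a cocycle. -/
noncomputable def cls : Zc K i →ₗ[A] K.homology i := (toC K i ≫ K.homologyπ i).hom

theorem iCycles_injective : Function.Injective (K.iCycles i) :=
  (ModuleCat.mono_iff_injective (K.iCycles i)).1 inferInstance

theorem iCycles_toC (x : Zc K i) : K.iCycles i (toC K i x) = (x : K.X i) :=
  ConcreteCategory.congr_hom (HomologicalComplex.liftCycles_i K (ModuleCat.ofHom (Zc K i).subtype)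
    (i + 1) (by simp) (by ext y; exact y.2)) x

theorem iCycles_mem (z : K.cycles i) : K.iCycles i z ∈ Zc K i :=
  ConcreteCategory.congr_hom (K.iCycles_d i (i + 1)) z

theorem homologyπ_eq_cls (z : K.cycles i) :
    K.homologyπ i z = cls K i ⟨_, iCycles_mem K i z⟩ :=
  congrArg (K.homologyπ i) (iCycles_injective K i (iCycles_toC K i ⟨_, iCycles_mem K i z⟩)).symm

theorem cls_surjective : Function.Surjective (cls K i) := by
  intro y
  obtain ⟨z, rfl⟩ := (ModuleCat.epi_iff_surjective (K.homologyπ i)).1 inferInstance y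
  exact ⟨_, (homologyπ_eq_cls K i z).symm⟩

variable {i}

theorem cls_eq_zero_iff {i₀ : ℤ} (h : i₀ + 1 = i) (x : Zc K i) :
    cls K i x = 0 ↔ ∃ y : K.X i₀, (K.d i₀ i).hom y = (x : K.X i) := by
  let S : ShortComplex (ModuleCat.{u} A) :=
    ShortComplex.mk (K.toCycles i₀ i) (K.homologyπ i) (K.toCycles_comp_homologyπ i₀ i)
  have hS : S.Exact := S.exact_of_g_is_cokernel (K.homologyIsCokernel i₀ i (by simp; omega))
  rw [ShortComplex.ShortExact.moduleCat_exact_iff_function_exact] at hS
  refine (hS (toC K i x)).trans ⟨?_, ?_⟩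
  · rintro ⟨w, hw⟩
    refine ⟨w, ?_⟩
    exact (ConcreteCategory.congr_hom (K.toCycles_i i₀ i) w).symm.trans
      ((congrArg (K.iCycles i) hw).trans (iCycles_toC K i x))
  · rintro ⟨w, hw⟩
    refine ⟨w, iCycles_injective K i ?_⟩
    exact (ConcreteCategory.congr_hom (K.toCycles_i i₀ i) w).trans (hw.trans (iCycles_toC K i x).symm)

theorem cls_boundary {i₀ : ℤ} (h : i₀ + 1 = i) (y : K.X i₀) (hy : (K.d i₀ i).hom y ∈ Zc K i) :
    cls K i ⟨_, hy⟩ = 0 :=
  (cls_eq_zero_iff K h _).2 ⟨y, rfl⟩

variable {K} {L : CochainComplex (ModuleCat.{u} A) ℤ} (φ : K ⟶ L)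

theorem map_mem_Zc (x : Zc K i) : (φ.f i).hom (x : K.X i) ∈ Zc L i := by
  rw [LinearMap.mem_ker]
  have h : (L.d i (i + 1)).hom ((φ.f i).hom (x : K.X i)) =
      (φ.f (i + 1)).hom ((K.d i (i + 1)).hom (x : K.X i)) :=
    ConcreteCategory.congr_hom (φ.comm i (i + 1)) (x : K.X i)
  exact h.trans ((congrArg _ (LinearMap.mem_ker.1 x.2)).trans (map_zero _))

theorem homologyMap_cls (x : Zc K i) :
    (HomologicalComplex.homologyMap φ i).hom (cls K i x) = cls L i ⟨_, map_mem_Zc φ x⟩ := by
  refine (ConcreteCategory.congr_hom (HomologicalComplex.homologyπ_naturality φ i) (toC K i x)).trans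
    (congrArg (L.homologyπ i) ?_)
  apply iCycles_injective L i
  refine (ConcreteCategory.congr_hom (HomologicalComplex.cyclesMap_i φ i) (toC K i x)).trans ?_
  exact (congrArg (φ.f i) (iCycles_toC K i x)).trans (iCycles_toC L i ⟨_, map_mem_Zc φ x⟩).symm

end

end KunnethCxLib
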