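import Groth.Agent.KunnethCxLib.Cls

/-!
# A surjection onto a complex from a complex of free modules with free cohomology
-/

set_option autoImplicit false
universe u

open CategoryTheory CategoryTheory.Limits

namespace KunnethCxLib

variable {A : Type u} [CommRing A] (M : DRing.Cx A)

/-- The nonzero cocycles. -/
def G0 (k : ℤ) : Type u := {z : M.X k // z ≠ 0 ∧ (M.d k (k + 1)).hom z = 0}

/-- The non-cocycles. -/
def G1 (k : ℤ) : Type u := {m : M.X k // (M.d k (k + 1)).hom m ≠ 0}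

/-- The non-cocycles one degree lower. -/
def G2 (k : ℤ) : Type u := {x : Σ i, M.X i // x.1 + 1 = k ∧ (M.d x.1 k).hom x.2 ≠ 0}

/-- Moving a non-cocycle up. -/
def up (k : ℤ) (m : G1 M k) : G2 M (k + 1) := ⟨⟨k, m.1⟩, rfl, m.2⟩

theorem up_bijective (k : ℤ) : Function.Bijective (up M k) := by
  refine ⟨fun m m' h => ?_, ?_⟩
  · exact Subtype.ext (eq_of_heq (Sigma.mk.inj_iff.1 (Subtype.mk.inj h)).2)
  · rintro ⟨⟨i, m⟩, h, h'⟩
    obtain rfl : i = k := by change i + 1 = k + 1 at h; omega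
    exact ⟨⟨m, h'⟩, rfl⟩

/-- The terms. -/
noncomputable abbrev PX (k : ℤ) : ModuleCat.{u} A := ModuleCat.of A ((G0 M k →₀ A) × (G1 M k →₀ A) × (G2 M k →₀ A))

/-- The differential. -/
noncomputable def Pd (k : ℤ) : PX M k ⟶ PX M (k + 1) :=
  ModuleCat.ofHom (LinearMap.inr A _ _ ∘ₗ LinearMap.inr A _ _ ∘ₗ Finsupp.lmapDomain A A (up M k) ∘ₗ
    LinearMap.fst A _ _ ∘ₗ LinearMap.snd A _ _)

theorem Pd_sq (k : ℤ) : Pd M k ≫ Pd M (k + 1) = 0 := by
  refine ModuleCat.hom_ext (LinearMap.ext fun x => ?_)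
  change ((0 : G0 M (k + 1 + 1) →₀ A), (0 : G1 M (k + 1 + 1) →₀ A),
    Finsupp.lmapDomain A A (up M (k + 1)) (0 : G1 M (k + 1) →₀ A)) = 0
  rw [map_zero]
  rfl

/-- The complex of free modules. -/
noncomputable def P : DRing.Cx A := CochainComplex.of (PX M) (Pd M) (Pd_sq M)

theorem P_d (k : ℤ) : (P M).d k (k + 1) = Pd M k := CochainComplex.of_d _ _ k

theorem P_d_apply (k : ℤ) (x : PX M k) :
    ((P M).d k (k + 1)).hom x =
      (((0 : G0 M (k + 1) →₀ A), (0 : G1 M (k + 1) →₀ A), Finsupp.lmapDomain A A (up M k) x.2.1) : PX M (k + 1)) := by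
  rw [P_d]
  rfl

/-- The surjection, in one degree. -/
noncomputable def πf (k : ℤ) : PX M k ⟶ M.X k :=
  ModuleCat.ofHom (LinearMap.coprod (Finsupp.linearCombination A fun z : G0 M k => z.1)
    (LinearMap.coprod (Finsupp.linearCombination A fun m : G1 M k => m.1)
      (Finsupp.linearCombination A fun x : G2 M k => (M.d x.1.1 k).hom x.1.2)))

theorem πf_apply (k : ℤ) (x : PX M k) :
    (πf M k).hom x = Finsupp.linearCombination A (fun z : G0 M k => z.1) x.1 +
      (Finsupp.linearCombination A (fun m : G1 M k => m.1) x.2.1 +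
        Finsupp.linearCombination A (fun x : G2 M k => (M.d x.1.1 k).hom x.1.2) x.2.2) :=
  rfl

theorem d_πf (k : ℤ) (x : PX M k) :
    (M.d k (k + 1)).hom ((πf M k).hom x) = (πf M (k + 1)).hom (((P M).d k (k + 1)).hom x) := by
  rw [P_d_apply, πf_apply, πf_apply]
  simp only [map_add, map_zero, zero_add, Finsupp.lmapDomain_apply, Finsupp.linearCombination_mapDomain]
  rw [Finsupp.apply_linearCombination, Finsupp.apply_linearCombination, Finsupp.apply_linearCombination]
  have h0 : ((M.d k (k + 1)).hom ∘ fun z : G0 M k => z.1) = 0 := funext fun z => z.2.2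
  have h2 : ((M.d k (k + 1)).hom ∘ fun x : G2 M k => (M.d x.1.1 k).hom x.1.2) = 0 :=
    funext fun x => ConcreteCategory.congr_hom (M.d_comp_d x.1.1 k (k + 1)) x.1.2
  rw [h0, h2]
  simp only [Finsupp.linearCombination_zero]
  simp only [LinearMap.zero_apply, zero_add, add_zero]
  rfl

/-- The surjection. -/
noncomputable def π : P M ⟶ M where
  f k := πf M k
  comm' i j hij := by
    obtain rfl : i + 1 = j := hij
    exact ModuleCat.hom_ext (LinearMap.ext fun x => d_πf M i x)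

theorem π_surjective (k : ℤ) : Function.Surjective ((π M).f k).hom := by
  intro m
  by_cases h : (M.d k (k + 1)).hom m = 0
  · by_cases h0 : m = 0
    · exact ⟨0, by rw [h0, map_zero]⟩
    · refine ⟨(Finsupp.single ⟨m, h0, h⟩ 1, 0, 0), ?_⟩
      refine (πf_apply M k _).trans ?_
      simp
  · refine ⟨(0, Finsupp.single ⟨m, h⟩ 1, 0), ?_⟩
    refine (πf_apply M k _).trans ?_
    simp

instance epi_π : Epi (π M) :=
  HomologicalComplex.epi_of_epi_f (π M) fun k => (ModuleCat.epi_iff_surjective _).2 (π_surjective M k)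

theorem projective_PX (k : ℤ) : Module.Projective A (PX M k) :=
  inferInstanceAs (Module.Projective A ((G0 M k →₀ A) × (G1 M k →₀ A) × (G2 M k →₀ A)))

theorem isZero_PX {b : ℤ} (hb : DRing.VanishesAbove M b) {k : ℤ} (hk : b < k) : IsZero (PX M k) := by
  have hM : ∀ m : M.X k, m = 0 := fun m =>
    @Subsingleton.elim _ (ModuleCat.isZero_of_iff_subsingleton.1 (hb k hk)) m 0
  have : IsEmpty (G0 M k) := ⟨fun z => z.2.1 (hM _)⟩
  have : IsEmpty (G1 M k) := ⟨fun m => m.2 (by rw [hM m.1, map_zero])⟩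
  have : IsEmpty (G2 M k) := ⟨fun x => x.2.2 (hM _)⟩
  exact ModuleCat.isZero_of_iff_subsingleton.2 (inferInstance :
    Subsingleton ((G0 M k →₀ A) × (G1 M k →₀ A) × (G2 M k →₀ A)))

theorem vanishesAbove_P {b : ℤ} (hb : DRing.VanishesAbove M b) : DRing.VanishesAbove (P M) b :=
  fun _ hk => isZero_PX M hb hk

/-- The cohomology of `P M`, as a complex with zero differential. -/
noncomputable def Z0 : DRing.Cx A :=
  CochainComplex.of (fun k => ModuleCat.of A (G0 M k →₀ A)) (fun _ => 0) (fun _ => comp_zero)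

theorem Z0_d (a b : ℤ) : (Z0 M).d a b = 0 := by
  by_cases h : a + 1 = b
  · subst h
    exact CochainComplex.of_d (fun k => ModuleCat.of A (G0 M k →₀ A)) (fun _ => 0) a
  · exact (Z0 M).shape a b h

theorem projective_Z0 (k : ℤ) : Module.Projective A ((Z0 M).X k) :=
  inferInstanceAs (Module.Projective A (G0 M k →₀ A))

theorem vanishesAbove_Z0 {b : ℤ} (hb : DRing.VanishesAbove M b) : DRing.VanishesAbove (Z0 M) b := by
  intro k hk
  have hM : ∀ m : M.X k, m = 0 := fun m =>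
    @Subsingleton.elim _ (ModuleCat.isZero_of_iff_subsingleton.1 (hb k hk)) m 0
  have : IsEmpty (G0 M k) := ⟨fun z => z.2.1 (hM _)⟩
  exact ModuleCat.isZero_of_iff_subsingleton.2 (inferInstance : Subsingleton (G0 M k →₀ A))

/-- The inclusion of `Z0 M` into `P M`. -/
noncomputable def s : Z0 M ⟶ P M where
  f k := ModuleCat.ofHom (LinearMap.inl A _ _)
  comm' i j hij := by
    obtain rfl : i + 1 = j := hij
    rw [Z0_d, zero_comp]
    refine ModuleCat.hom_ext (LinearMap.ext fun x => ?_)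
    refine (P_d_apply M i _).trans ?_
    change ((0 : G0 M (i + 1) →₀ A), (0 : G1 M (i + 1) →₀ A),
      Finsupp.lmapDomain A A (up M i) (0 : G1 M i →₀ A)) = 0
    rw [map_zero]
    rfl

theorem exists_Zc_eq (k : ℤ) (x : Zc (P M) k) :
    (x.1 : PX M k).2.1 = 0 := by
  have h : ((P M).d k (k + 1)).hom (x.1 : PX M k) = 0 := x.2
  rw [P_d_apply] at h
  exact Finsupp.mapDomain_injective (up_bijective M k).1
    ((congrArg (fun y : PX M (k + 1) => y.2.2) h).trans Finsupp.mapDomain_zero.symm)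

theorem exists_boundary (k : ℤ) (g : G2 M k →₀ A) :
    ∃ y : PX M (k - 1), ((P M).d (k - 1) k).hom y = (((0 : G0 M k →₀ A), (0 : G1 M k →₀ A), g) : PX M k) := by
  obtain ⟨k₀, rfl⟩ : ∃ k₀, k = k₀ + 1 := ⟨k - 1, by omega⟩
  rw [add_sub_cancel_right]
  obtain ⟨f, rfl⟩ := Finsupp.mapDomain_surjective (up_bijective M k₀).2 g
  exact ⟨((0 : G0 M k₀ →₀ A), f, (0 : G2 M k₀ →₀ A)), P_d_apply M k₀ _⟩

theorem homologyMap_s_bijective (k : ℤ) :
    Function.Bijective (HomologicalComplex.homologyMap (s M) k).hom := by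
  refine ⟨?_, ?_⟩
  · rw [injective_iff_map_eq_zero]
    intro a ha
    obtain ⟨x, rfl⟩ := cls_surjective (Z0 M) k a
    rw [homologyMap_cls, cls_eq_zero_iff (P M) (by omega : k - 1 + 1 = k)] at ha
    obtain ⟨y, hy⟩ := ha
    obtain ⟨k₀, rfl⟩ : ∃ k₀, k = k₀ + 1 := ⟨k - 1, by omega⟩
    have hy' : ∀ (l : ℤ) (_ : l = k₀) (y : PX M l), (((P M).d l (k₀ + 1)).hom y : PX M (k₀ + 1)).1 = 0 := by
      rintro l rfl y
      rw [P_d_apply]
    have : (x.1 : G0 M (k₀ + 1) →₀ A) = 0 :=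
      (congrArg (fun y : PX M (k₀ + 1) => y.1) hy).symm.trans (hy' _ (by omega) y)
    rw [show x = 0 from Subtype.ext this, map_zero]
  · intro c
    obtain ⟨x, rfl⟩ := cls_surjective (P M) k c
    refine ⟨cls (Z0 M) k ⟨(x.1 : PX M k).1, LinearMap.mem_ker.2 (by rw [Z0_d]; rfl)⟩, ?_⟩
    rw [homologyMap_cls, ← sub_eq_zero, ← map_sub, cls_eq_zero_iff (P M) (by omega : k - 1 + 1 = k)]
    obtain ⟨y, hy⟩ := exists_boundary M k (-(x.1 : PX M k).2.2)
    refine ⟨y, hy.trans ?_⟩
    refine Prod.ext ?_ (Prod.ext ?_ ?_)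
    · exact (sub_self _).symm
    · exact ((sub_eq_zero.2 (exists_Zc_eq M k x).symm)).symm
    · exact (zero_sub _).symm

theorem homologyMap_π_surjective (k : ℤ) :
    Function.Surjective (HomologicalComplex.homologyMap (π M) k).hom := by
  intro c
  obtain ⟨m, rfl⟩ := cls_surjective M k c
  by_cases h0 : (m : M.X k) = 0
  · exact ⟨0, by rw [map_zero, show m = 0 from Subtype.ext h0, map_zero]⟩
  let v : PX M k := ((Finsupp.single ⟨(m : M.X k), h0, m.2⟩ 1 : G0 M k →₀ A), (0 : G1 M k →₀ A),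
    (0 : G2 M k →₀ A))
  have hx : @Membership.mem ((P M).X k) (Submodule A ((P M).X k)) _ (Zc (P M) k) v := by
    refine LinearMap.mem_ker.2 ((P_d_apply M k _).trans ?_)
    change ((0 : G0 M (k + 1) →₀ A), (0 : G1 M (k + 1) →₀ A),
      Finsupp.lmapDomain A A (up M k) (0 : G1 M k →₀ A)) = 0
    rw [map_zero]
    rfl
  refine ⟨cls (P M) k ⟨_, hx⟩, ?_⟩
  rw [homologyMap_cls]
  refine congrArg (cls M k) (Subtype.ext ((πf_apply M k _).trans ?_))
  simp [v]

end KunnethCxLib
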