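import Groth.Agent.KunnethCxLib.Map

/-!
# The Künneth map for a complex of flat modules with zero differential
-/

set_option autoImplicit false
universe u

open CategoryTheory CategoryTheory.Limits MonoidalCategory TensorProduct KFlatLib

namespace KunnethCxLib

variable {A : Type u} [CommRing A]
variable {L F : DRing.Cx A}

theorem d_comp_proj (hd : ∀ a b, F.d a b = 0) (p q n n' : ℤ) (hn : n + 1 = n') (h : p + q = n) :
    (tT L F).d n n' ≫ proj (p + 1) q n' (by omega) = proj p q n h ≫ (L.d p (p + 1) ▷ F.X q) := by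
  refine HomologicalComplex.mapBifunctor.hom_ext fun p' q' h' => ?_
  have h'' : p' + q' = n := h'
  have e : ιT L F p' q' n h' ≫ (tT L F).d n n' =
      L.d p' (p' + 1) ▷ F.X q' ≫ ιT L F (p' + 1) q' n' (by omega) := by
    rw [ιT_d L F p' q' n n' h' hn, hd, MonoidalPreadditive.whiskerLeft_zero, zero_comp, smul_zero, add_zero]
  change ιT L F p' q' n h' ≫ _ = ιT L F p' q' n h' ≫ _
  rw [← Category.assoc, e, Category.assoc]
  by_cases hq : q' = q
  · subst hq
    obtain rfl : p' = p := by omega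
    rw [ιT_proj, Category.comp_id, ← Category.assoc, ιT_proj, Category.id_comp]
  · rw [ιT_proj_ne _ _ hq, comp_zero, ← Category.assoc, ιT_proj_ne _ _ hq, zero_comp]

theorem d_proj (hd : ∀ a b, F.d a b = 0) (p q n n' : ℤ) (hn : n + 1 = n') (h : p + q = n) (z : (tT L F).X n) :
    (proj (p + 1) q n' (by omega)).hom (((tT L F).d n n').hom z) =
      (L.d p (p + 1)).hom.rTensor (F.X q) ((proj p q n h).hom z) :=
  ConcreteCategory.congr_hom (d_comp_proj hd p q n n' hn h) z

theorem proj_preX_self (i j n : ℤ) (h : i + j = n) (t : Zc L i ⊗[A] Zc F j) :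
    (proj i j n h).hom (preX L F i j n h t) =
      TensorProduct.map (Zc L i).subtype (Zc F j).subtype t :=
  ConcreteCategory.congr_hom (ιT_proj i j n h) (TensorProduct.map (Zc L i).subtype (Zc F j).subtype t)

theorem proj_preX_ne {i j n p q : ℤ} (h : i + j = n) (hpq : p + q = n) (hq : j ≠ q)
    (t : Zc L i ⊗[A] Zc F j) :
    (proj p q n hpq).hom (preX L F i j n h t) = 0 :=
  ConcreteCategory.congr_hom (ιT_proj_ne hpq h hq) (TensorProduct.map (Zc L i).subtype (Zc F j).subtype t)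

theorem map_cls_eq_zero (hd : ∀ a b, F.d a b = 0) (hF : ∀ q, Module.Flat A (F.X q)) (i j : ℤ) {i₀ : ℤ}
    (hi : i₀ + 1 = i) (t : Zc L i ⊗[A] Zc F j) (w : (L.X i₀ : Type u) ⊗[A] (F.X j : Type u))
    (hw : TensorProduct.map (Zc L i).subtype (Zc F j).subtype t = (L.d i₀ i).hom.rTensor (F.X j) w) :
    TensorProduct.map (cls L i) (cls F j) t = 0 := by
  have hflat := hF j
  let β : (L.X i₀ : Type u) →ₗ[A] Zc L i := LinearMap.codRestrict _ (L.d i₀ i).hom fun y =>
    LinearMap.mem_ker.2 (ConcreteCategory.congr_hom (L.d_comp_d i₀ i (i + 1)) y)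
  let s : (F.X j : Type u) →ₗ[A] Zc F j := LinearMap.codRestrict _ LinearMap.id fun y =>
    LinearMap.mem_ker.2 (by rw [hd]; rfl)
  have h1 : (Zc F j).subtype.lTensor (Zc L i) t = β.rTensor (F.X j) w := by
    refine Module.Flat.rTensor_preserves_injective_linearMap (Zc L i).subtype Subtype.val_injective ?_
    rw [← LinearMap.comp_apply, LinearMap.rTensor_comp_lTensor, hw, ← LinearMap.comp_apply, ← LinearMap.rTensor_comp]
    rfl
  have h2 : t = TensorProduct.map β s w := by
    have e : s.lTensor (Zc L i) ((Zc F j).subtype.lTensor (Zc L i) t) = t := by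
      rw [← LinearMap.comp_apply, ← LinearMap.lTensor_comp]
      have : s ∘ₗ (Zc F j).subtype = LinearMap.id := rfl
      rw [this, LinearMap.lTensor_id]
      rfl
    rw [← e, h1, ← LinearMap.comp_apply, LinearMap.lTensor_comp_rTensor]
  have h3 : cls L i ∘ₗ β = 0 := LinearMap.ext fun y => cls_boundary L hi y (β y).2
  rw [h2, ← LinearMap.comp_apply, ← TensorProduct.map_comp, h3, TensorProduct.map_zero_left]
  rfl

theorem Φ_injective_of_zero (hd : ∀ a b, F.d a b = 0) (hF : ∀ q, Module.Flat A (F.X q)) (n : ℤ) :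
    Function.Injective (Φ L F n) := by
  classical
  rw [injective_iff_map_eq_zero]
  intro x hx
  have hsum : x = ∑ ij ∈ x.support, DirectSum.lof A (HTor.Antidiag n) _ ij (x ij) :=
    (DirectSum.sum_support_of x).symm
  choose t ht using fun ij : HTor.Antidiag n =>
    map_cls_surjective L F ij.1.1 ij.1.2 (x ij)
  have hx' : cls (tT L F) n (∑ ij ∈ x.support, pre L F ij.1.1 ij.1.2 n ij.2 (t ij)) = 0 := by
    rw [hsum, map_sum] at hx
    rw [map_sum]
    refine Eq.trans (Finset.sum_congr rfl fun ij _ => ?_) hx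
    rw [Φ_lof, ← ht ij, kcomp_map]
    rfl
  obtain ⟨y, hy⟩ := (cls_eq_zero_iff (tT L F) (by omega : n - 1 + 1 = n) _).1 hx'
  refine DFinsupp.ext fun kl => ?_
  obtain ⟨⟨k, l⟩, hkl⟩ := kl
  by_cases hk : (⟨(k, l), hkl⟩ : HTor.Antidiag n) ∈ x.support
  swap
  · exact DFinsupp.notMem_support_iff.1 hk
  obtain ⟨k₀, rfl⟩ : ∃ k₀, k = k₀ + 1 := ⟨k - 1, by omega⟩
  rw [DFinsupp.zero_apply, ← ht]
  refine map_cls_eq_zero hd hF _ _ rfl _
    ((proj k₀ l (n - 1) (by change k₀ + 1 + l = n at hkl; omega)).hom y) ?_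
  have hp : TensorProduct.map (Zc L (k₀ + 1)).subtype (Zc F l).subtype (t ⟨(k₀ + 1, l), hkl⟩) =
      (proj (k₀ + 1) l n hkl).hom (((tT L F).d (n - 1) n).hom y) := by
    rw [hy]
    refine Eq.symm ((congrArg (proj (k₀ + 1) l n hkl).hom (Submodule.coe_sum (Zc (tT L F) n) _ _)).trans ?_)
    refine (map_sum _ _ _).trans ((Finset.sum_eq_single_of_mem _ hk ?_).trans (proj_preX_self _ _ n hkl _))
    rintro ⟨⟨a, b⟩, hab⟩ - hne
    refine proj_preX_ne hab hkl (fun hb => hne (Subtype.ext (Prod.ext ?_ hb))) _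
    change a + b = n at hab
    change k₀ + 1 + l = n at hkl
    change b = l at hb
    change a = k₀ + 1
    omega
  exact hp.trans (d_proj hd k₀ l (n - 1) n (by omega) (by change k₀ + 1 + l = n at hkl; omega) y)

theorem Φ_surjective_of_zero (hd : ∀ a b, F.d a b = 0) (hF : ∀ q, Module.Flat A (F.X q)) (n : ℤ) :
    Function.Surjective (Φ L F n) := by
  intro c
  obtain ⟨z, rfl⟩ := cls_surjective (tT L F) n c
  obtain ⟨s, hs⟩ := exists_sum_proj L F (z : (tT L F).X n)
  have hc : ∀ q, ∃ t : Zc L (n - q) ⊗[A] Zc F q,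
      TensorProduct.map (Zc L (n - q)).subtype (Zc F q).subtype t =
        (proj (n - q) q n (sub_add_cancel n q)).hom (z : (tT L F).X n) := by
    intro q
    have hflat := hF q
    have h0 : (L.d (n - q) (n - q + 1)).hom.rTensor (F.X q)
        ((proj (n - q) q n (sub_add_cancel n q)).hom (z : (tT L F).X n)) = 0 := by
      rw [← d_proj hd (n - q) q n (n + 1) rfl (sub_add_cancel n q), LinearMap.mem_ker.1 z.2, map_zero]
    obtain ⟨v, hv⟩ := (Module.Flat.rTensor_exact (F.X q)
      (LinearMap.exact_subtype_ker_map (L.d (n - q) (n - q + 1)).hom) _).1 h0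
    let σ : (F.X q : Type u) →ₗ[A] Zc F q := LinearMap.codRestrict _ LinearMap.id fun y =>
      LinearMap.mem_ker.2 (by rw [hd]; rfl)
    refine ⟨σ.lTensor _ v, ?_⟩
    rw [← hv, ← LinearMap.comp_apply, LinearMap.map_comp_lTensor]
    rfl
  choose t ht using hc
  refine ⟨∑ q ∈ s, DirectSum.lof A (HTor.Antidiag n) _ ⟨(n - q, q), sub_add_cancel n q⟩
    (TensorProduct.map (cls L (n - q)) (cls F q) (t q)), ?_⟩
  have hz : ∑ q ∈ s, pre L F (n - q) q n (sub_add_cancel n q) (t q) = z := by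
    refine Subtype.ext ?_
    rw [Submodule.coe_sum]
    refine Eq.trans (Finset.sum_congr rfl fun q _ => ?_) (hs s (subset_refl s))
    exact congrArg _ (ht q)
  rw [map_sum, ← hz, map_sum]
  refine Finset.sum_congr rfl fun q _ => ?_
  rw [Φ_lof]
  exact kcomp_map L F _ _ n _ _

theorem Φ_bijective_of_zero (hd : ∀ a b, F.d a b = 0) (hF : ∀ q, Module.Flat A (F.X q)) (n : ℤ) :
    Function.Bijective (Φ L F n) :=
  ⟨Φ_injective_of_zero hd hF n, Φ_surjective_of_zero hd hF n⟩

end KunnethCxLib
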