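import Groth.Agent.KunnethCxLib.Map
import Groth.Agent.KunnethCxLib.Resolve
import Groth.Agent.KunnethCxLib.Zero
import Groth.Agent.KFlatLib.Alg

/-!
# The short exact sequence attached to the free cover of a complex
-/

set_option autoImplicit false
universe u

open CategoryTheory CategoryTheory.Limits MonoidalCategory TensorProduct KFlatLib HomologicalComplex

namespace KunnethCxLib

variable {A : Type u} [CommRing A]

/-- Tensoring a short exact sequence with a complex of flat modules keeps it short exact. -/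
theorem shortExact_tMap_flat (L : DRing.Cx A) (hL : DRing.TermwiseFlat L)
    {S : ShortComplex (DRing.Cx A)} (hS : S.ShortExact)
    (w : tMap (𝟙 L) S.f ≫ tMap (𝟙 L) S.g = 0) :
    (ShortComplex.mk (tMap (𝟙 L) S.f) (tMap (𝟙 L) S.g) w).ShortExact := by
  have hd : ∀ q, Function.Injective (S.f.f q).hom ∧
      Function.Exact (S.f.f q).hom (S.g.f q).hom ∧ Function.Surjective (S.g.f q).hom := fun q => by
    have h := (HomologicalComplex.shortExact_iff_degreewise_shortExact S).mp hS q
    exact ⟨(ModuleCat.mono_iff_injective _).mp h.mono_f,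
      (ShortComplex.ShortExact.moduleCat_exact_iff_function_exact _).mp h.exact,
      (ModuleCat.epi_iff_surjective _).mp h.epi_g⟩
  have hl : ∀ {K K' : DRing.Cx A} (φ : K ⟶ K') (p q : ℤ),
      ((𝟙 L : L ⟶ L).f p ⊗ₘ φ.f q).hom = (φ.f q).hom.lTensor (L.X p) := fun φ p q => rfl
  refine HomologicalComplex.shortExact_of_degreewise_shortExact _ fun n => ?_
  refine
    { exact := (ShortComplex.moduleCat_exact_iff _).mpr fun z hz => ?_
      mono_f := (ModuleCat.mono_iff_injective _).mpr ?_
      epi_g := (ModuleCat.epi_iff_surjective _).mpr ?_ }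
  · change ↥((tT L S.X₂).X n) at z
    change ((tMap (𝟙 L) S.g).f n).hom z = 0 at hz
    obtain ⟨s, hs⟩ := exists_sum_proj L S.X₂ z
    have : ∀ q, ∃ y, ((𝟙 L : L ⟶ L).f (n - q) ⊗ₘ S.f.f q).hom y =
        (proj (n - q) q n (sub_add_cancel n q)).hom z := by
      intro q
      rw [hl]
      refine (lTensor_exact (L.X (n - q)) (hd q).2.1 (hd q).2.2 _).mp ?_
      rw [← hl]
      refine (congr($(tMap_proj (𝟙 L) S.g (n - q) q n (sub_add_cancel n q)).hom z)).symm.trans ?_
      change (proj _ _ _ _).hom (((tMap (𝟙 L) S.g).f n).hom z) = 0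
      rw [hz, map_zero]
    choose y hy using this
    refine ⟨∑ q ∈ s, (ιT L S.X₁ (n - q) q n (sub_add_cancel n q)).hom (y q), ?_⟩
    change ((tMap (𝟙 L) S.f).f n).hom _ = z
    refine (map_sum _ _ _).trans ?_
    refine Eq.trans (Finset.sum_congr rfl fun q _ => ?_) (hs s (subset_refl s))
    refine (congr($(ιT_tMap (𝟙 L) S.f (n - q) q n (sub_add_cancel n q)).hom (y q))).trans ?_
    exact congrArg _ (hy q)
  · rw [injective_iff_map_eq_zero]
    intro z hz
    change ↥((tT L S.X₁).X n) at z
    change ((tMap (𝟙 L) S.f).f n).hom z = 0 at hz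
    obtain ⟨s, hs⟩ := exists_sum_proj L S.X₁ z
    refine (hs s (subset_refl s)).symm.trans (Finset.sum_eq_zero fun q _ => ?_)
    have := hL (n - q)
    have hinj := Module.Flat.lTensor_preserves_injective_linearMap (M := (L.X (n - q) : Type u))
      (S.f.f q).hom (hd q).1
    have e : (proj (n - q) q n (sub_add_cancel n q)).hom z = 0 := by
      refine hinj (Eq.trans ?_ (map_zero _).symm)
      refine (congr($(tMap_proj (𝟙 L) S.f (n - q) q n (sub_add_cancel n q)).hom z)).symm.trans ?_
      change (proj _ _ _ _).hom (((tMap (𝟙 L) S.f).f n).hom z) = _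
      rw [hz, map_zero]
    rw [e, map_zero]
  · intro z
    change ↥((tT L S.X₃).X n) at z
    obtain ⟨s, hs⟩ := exists_sum_proj L S.X₃ z
    choose y hy using fun q => LinearMap.lTensor_surjective (L.X (n - q)) (hd q).2.2
      ((proj (n - q) q n (sub_add_cancel n q)).hom z)
    refine ⟨∑ q ∈ s, (ιT L S.X₂ (n - q) q n (sub_add_cancel n q)).hom (y q), ?_⟩
    change ((tMap (𝟙 L) S.g).f n).hom _ = z
    refine (map_sum _ _ _).trans ?_
    refine Eq.trans (Finset.sum_congr rfl fun q _ => ?_) (hs s (subset_refl s))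
    refine (congr($(ιT_tMap (𝟙 L) S.g (n - q) q n (sub_add_cancel n q)).hom (y q))).trans ?_
    exact congrArg _ (hy q)

variable (M : DRing.Cx A)

/-- The kernel of the free cover. -/
noncomputable def K1 : DRing.Cx A := kernel (π M)

/-- Its inclusion. -/
noncomputable def incl : K1 M ⟶ P M := kernel.ι (π M)

theorem incl_π : incl M ≫ π M = 0 := kernel.condition _

theorem vanishesAbove_K1 {b : ℤ} (hb : DRing.VanishesAbove M b) : DRing.VanishesAbove (K1 M) b := by
  intro k hk
  have : Mono ((incl M).f k) := by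
    have : Mono (incl M) := inferInstanceAs (Mono (kernel.ι (π M)))
    infer_instance
  exact IsZero.of_mono ((incl M).f k) (vanishesAbove_P M hb k hk)

theorem shortExact_cover : (ShortComplex.mk (incl M) (π M) (incl_π M)).ShortExact where
  exact := ShortComplex.exact_of_f_is_kernel _ (kernelIsKernel (π M))
  mono_f := inferInstanceAs (Mono (kernel.ι (π M)))
  epi_g := epi_π M

theorem homologyMap_π_epi (k : ℤ) : Epi (homologyMap (π M) k) :=
  (ModuleCat.epi_iff_surjective _).2 (homologyMap_π_surjective M k)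

theorem homologyMap_incl_injective (k : ℤ) : Function.Injective (homologyMap (incl M) k).hom := by
  have h := shortExact_cover M
  have hz := homologyMap_π_epi M (k - 1)
  have hk : (ComplexShape.up ℤ).Rel (k - 1) k := by simp
  have hδ : h.δ (k - 1) k hk = 0 := by
    rw [← cancel_epi (homologyMap (π M) (k - 1)), comp_zero]
    exact h.comp_δ (k - 1) k hk
  exact (ModuleCat.mono_iff_injective _).1
    ((h.homology_exact₁ (k - 1) k hk).mono_g hδ)

theorem exact_incl_π (k : ℤ) :
    Function.Exact (homologyMap (incl M) k).hom (homologyMap (π M) k).hom :=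
  (ShortComplex.ShortExact.moduleCat_exact_iff_function_exact _).1 ((shortExact_cover M).homology_exact₂ k)

theorem flat_homology_P (k : ℤ) : Module.Flat A ((P M).homology k) := by
  let e : (Z0 M).homology k ≃ₗ[A] (P M).homology k :=
    LinearEquiv.ofBijective _ (homologyMap_s_bijective M k)
  have := projective_Z0 M k
  have hb : Function.Bijective (cls (Z0 M) k) := by
    refine ⟨?_, cls_surjective _ _⟩
    rw [injective_iff_map_eq_zero]
    intro x hx
    obtain ⟨y, hy⟩ := (cls_eq_zero_iff (Z0 M) (by omega : k - 1 + 1 = k) x).1 hx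
    rw [Z0_d] at hy
    exact Subtype.ext hy.symm
  have hz : Zc (Z0 M) k = ⊤ := by rw [eq_top_iff]; intro x _; rw [LinearMap.mem_ker, Z0_d]; rfl
  exact Module.Flat.of_linearEquiv
    ((Submodule.topEquiv.symm.trans ((LinearEquiv.ofEq _ _ hz.symm).trans
      (LinearEquiv.ofBijective _ hb))).trans e).symm

theorem tensor_incl_π (L : DRing.Cx A) : tMap (𝟙 L) (incl M) ≫ tMap (𝟙 L) (π M) = 0 := by
  refine HomologicalComplex.hom_ext _ _ fun n => ?_
  refine mapBifunctor.hom_ext fun p q h => ?_
  rw [comp_f, zero_f, comp_zero]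
  refine ((Category.assoc _ _ _).symm.trans
    (congrArg (· ≫ _) (ιT_tMap (𝟙 L) (incl M) p q n h))).trans ?_
  refine (Category.assoc _ _ _).trans ((congrArg (_ ≫ ·) (ιT_tMap (𝟙 L) (π M) p q n h)).trans ?_)
  rw [← Category.assoc, id_f, tensorHom_comp_tensorHom, ← comp_f, incl_π, zero_f,
    MonoidalPreadditive.tensor_zero, zero_comp]

theorem shortExact_tensor_cover (L : DRing.Cx A) (hL : DRing.TermwiseFlat L) :
    (ShortComplex.mk (tMap (𝟙 L) (incl M)) (tMap (𝟙 L) (π M)) (tensor_incl_π M L)).ShortExact :=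
  shortExact_tMap_flat L hL (S := ShortComplex.mk (incl M) (π M) (incl_π M)) (shortExact_cover M) _

variable {L : DRing.Cx A} (hL : DRing.TermwiseFlat L) {bL : ℤ} (hbL : DRing.VanishesAbove L bL) (n : ℤ)

include hL hbL in
theorem Φ_P_bijective : Function.Bijective (Φ L (P M) n) := by
  have hK : DRing.IsKFlat A L := isKFlat_of_bounded_flat L bL hbL hL
  have : ∀ k, QuasiIsoAt (s M) k := fun k =>
    (quasiIsoAt_iff_isIso_homologyMap _ _).2
      ((ConcreteCategory.isIso_iff_bijective _).2 (homologyMap_s_bijective M k))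
  have : QuasiIso (s M) := ⟨this⟩
  have := quasiIso_tMap_left hK (s M)
  have h1 : Function.Bijective (homologyMap (tMap (𝟙 L) (s M)) n).hom :=
    (ConcreteCategory.isIso_iff_bijective _).1 ((quasiIsoAt_iff_isIso_homologyMap _ _).1 inferInstance)
  have h2 : Function.Bijective (Φ L (Z0 M) n) :=
    Φ_bijective_of_zero (Z0_d M) (fun q => haveI := projective_Z0 M q; inferInstance) n
  have h3 : Function.Bijective (Kmap L (s M) n) := by
    have hl : ∀ ij : HTor.Antidiag n, Function.Bijective
        ((homologyMap (s M) ij.1.2).hom.lTensor (L.homology ij.1.1 : Type u)) := fun ij =>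
      ((LinearEquiv.ofBijective _ (homologyMap_s_bijective M ij.1.2)).lTensor (L.homology ij.1.1 : Type u)).bijective
    exact ⟨(DirectSum.lmap_injective _).2 fun ij => (hl ij).1, (DirectSum.lmap_surjective _).2 fun ij => (hl ij).2⟩
  have h4 : Function.Bijective (⇑(Φ L (P M) n) ∘ ⇑(Kmap L (s M) n)) := by
    have : (⇑(Φ L (P M) n) ∘ ⇑(Kmap L (s M) n)) = ⇑(homologyMap (tMap (𝟙 L) (s M)) n).hom ∘ ⇑(Φ L (Z0 M) n) :=
      funext fun t => Φ_natural_apply L (s M) n t
    rw [this]
    exact h1.comp h2
  exact (Function.Bijective.of_comp_iff _ h3).1 h4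

/-- The connecting map. -/
noncomputable def conn : (tT L M).homology n →ₗ[A] (tT L (K1 M)).homology (n + 1) :=
  ((shortExact_tensor_cover M L hL).δ n (n + 1) (by simp)).hom

theorem exact_conn :
    Function.Exact (homologyMap (tMap (𝟙 L) (π M)) n).hom (conn M hL n) :=
  (ShortComplex.ShortExact.moduleCat_exact_iff_function_exact _).1
    ((shortExact_tensor_cover M L hL).homology_exact₃ n (n + 1) (by simp))

theorem exact_conn_incl :
    Function.Exact (conn M hL n) (homologyMap (tMap (𝟙 L) (incl M)) (n + 1)).hom :=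
  (ShortComplex.ShortExact.moduleCat_exact_iff_function_exact _).1
    ((shortExact_tensor_cover M L hL).homology_exact₁ n (n + 1) (by simp))

include hL in
theorem exact_tensor_incl_π :
    Function.Exact (homologyMap (tMap (𝟙 L) (incl M)) n).hom (homologyMap (tMap (𝟙 L) (π M)) n).hom :=
  (ShortComplex.ShortExact.moduleCat_exact_iff_function_exact _).1
    ((shortExact_tensor_cover M L hL).homology_exact₂ n)

theorem Kmap_π_surjective : Function.Surjective (Kmap L (π M) n) :=
  (DirectSum.lmap_surjective _).2 fun ij =>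
    LinearMap.lTensor_surjective _ (homologyMap_π_surjective M ij.1.2)

theorem Kmap_π_incl (t : HTor.KunnethSum L (K1 M) n) : Kmap L (π M) n (Kmap L (incl M) n t) = 0 := by
  have : Kmap L (π M) n ∘ₗ Kmap L (incl M) n = 0 := by
    refine DirectSum.linearMap_ext A fun ij => TensorProduct.ext' fun a b => ?_
    simp only [LinearMap.comp_apply, Kmap, DirectSum.lmap_lof, LinearMap.lTensor_tmul, LinearMap.zero_apply]
    rw [(exact_incl_π M ij.1.2).apply_apply_eq_zero, TensorProduct.tmul_zero, map_zero]
  exact LinearMap.congr_fun this t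

include hL hbL in
theorem range_Φ_eq_ker_conn : LinearMap.range (Φ L M n) = LinearMap.ker (conn M hL n) := by
  rw [(exact_conn M hL n).linearMap_ker_eq]
  have h1 : Φ L M n ∘ₗ Kmap L (π M) n = (homologyMap (tMap (𝟙 L) (π M)) n).hom ∘ₗ Φ L (P M) n :=
    Φ_natural L (π M) n
  rw [← LinearMap.range_comp_of_range_eq_top (Φ L M n) (LinearMap.range_eq_top.2 (Kmap_π_surjective M n)), h1,
    LinearMap.range_comp_of_range_eq_top _ (LinearMap.range_eq_top.2 (Φ_P_bijective M hL hbL n).2)]

end KunnethCxLib
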