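import Groth.Prelude.Def_HTor
import Mathlib

/-!
# Subquotients
-/

set_option autoImplicit false
universe u v

namespace KunnethCxLib

variable {R : Type v} [CommRing R]
variable {N N' T T' : Type u} [AddCommGroup N] [Module R N] [AddCommGroup N'] [Module R N']
  [AddCommGroup T] [Module R T] [AddCommGroup T'] [Module R T']

theorem isSubquotient_of_surjective {S' : Submodule R T} (g : S' →ₗ[R] N) (hg : Function.Surjective g) :
    HTor.IsSubquotient R N T := by
  refine ⟨(LinearMap.ker g).map S'.subtype, S', Submodule.map_subtype_le _ _, ⟨?_⟩⟩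
  have e : Submodule.comap S'.subtype ((LinearMap.ker g).map S'.subtype) = LinearMap.ker g :=
    Submodule.comap_map_eq_of_injective Subtype.val_injective _
  exact (LinearMap.quotKerEquivOfSurjective g hg).symm.trans (Submodule.quotEquivOfEq _ _ e.symm)

theorem exists_surjective_of_isSubquotient (h : HTor.IsSubquotient R N T) :
    ∃ (S' : Submodule R T) (g : S' →ₗ[R] N), Function.Surjective g := by
  obtain ⟨S, S', -, ⟨e⟩⟩ := h
  exact ⟨S', e.symm.toLinearMap ∘ₗ Submodule.mkQ _, e.symm.surjective.comp (Submodule.mkQ_surjective _)⟩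

theorem isSubquotient_of_injective (f : N →ₗ[R] N') (hf : Function.Injective f)
    (h : HTor.IsSubquotient R N' T) : HTor.IsSubquotient R N T := by
  obtain ⟨S', g, hg⟩ := exists_surjective_of_isSubquotient h
  let W : Submodule R S' := (LinearMap.range f).comap g
  let e := Submodule.equivMapOfInjective S'.subtype Subtype.val_injective W
  let g₁ : W →ₗ[R] LinearMap.range f := LinearMap.codRestrict _ (g ∘ₗ W.subtype) fun w => w.2
  have hg₁ : Function.Surjective g₁ := by
    rintro ⟨y, hy⟩
    obtain ⟨w, rfl⟩ := hg y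
    exact ⟨⟨w, hy⟩, rfl⟩
  exact isSubquotient_of_surjective
    ((LinearEquiv.ofInjective f hf).symm.toLinearMap ∘ₗ g₁ ∘ₗ e.symm.toLinearMap)
    ((LinearEquiv.ofInjective f hf).symm.surjective.comp (hg₁.comp e.symm.surjective))

theorem isSubquotient_of_equiv (e : T ≃ₗ[R] T') (h : HTor.IsSubquotient R N T) : HTor.IsSubquotient R N T' := by
  obtain ⟨S', g, hg⟩ := exists_surjective_of_isSubquotient h
  exact isSubquotient_of_surjective (g ∘ₗ (e.submoduleMap S').symm.toLinearMap)
    (hg.comp (e.submoduleMap S').symm.surjective)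

theorem subsingleton_of_isSubquotient [Subsingleton T] (h : HTor.IsSubquotient R N T) : Subsingleton N := by
  obtain ⟨S', g, hg⟩ := exists_surjective_of_isSubquotient h
  exact hg.subsingleton

/-- Preimages induce injections on successive quotients. -/
theorem isSubquotient_grSucc_comap {H H' : Type u} [AddCommGroup H] [Module R H] [AddCommGroup H'] [Module R H']
    (δ : H →ₗ[R] H') (F : ℕ → Submodule R H) (G : ℕ → Submodule R H') (p : ℕ)
    (h0 : F (p + 1) = (G p).comap δ) (h1 : F (p + 2) = (G (p + 1)).comap δ)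
    (h : HTor.IsSubquotient R (HTor.grSucc G p) T) : HTor.IsSubquotient R (HTor.grSucc F (p + 1)) T := by
  have hm : ∀ x : F (p + 2), δ x ∈ G (p + 1) := fun x => (SetLike.le_def.1 h1.le x.2 :)
  let q : F (p + 1 + 1) →ₗ[R] HTor.grSucc G p := Submodule.mkQ _ ∘ₗ LinearMap.codRestrict _ (δ ∘ₗ Submodule.subtype _) hm
  have hq : LinearMap.ker q = (F (p + 1)).comap (F (p + 1 + 1)).subtype := by
    ext x
    rw [LinearMap.mem_ker]
    refine (Submodule.Quotient.mk_eq_zero _).trans ?_
    rw [Submodule.mem_comap, Submodule.mem_comap, h0]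
    rfl
  refine isSubquotient_of_injective
    ((Submodule.liftQ _ q hq.ge)) ?_ h
  exact LinearMap.ker_eq_bot.1 (Submodule.ker_liftQ_eq_bot _ _ _ hq.le)

theorem isSubquotient_grSucc_zero {H H' : Type u} [AddCommGroup H] [Module R H] [AddCommGroup H'] [Module R H']
    (δ : H →ₗ[R] H') (F : ℕ → Submodule R H) (W : Submodule R H')
    (h0 : F 0 = LinearMap.ker δ) (hm : ∀ x : F 1, δ x ∈ W)
    (h : HTor.IsSubquotient R W T) : HTor.IsSubquotient R (HTor.grSucc F 0) T := by
  let q : F (0 + 1) →ₗ[R] W := LinearMap.codRestrict _ (δ ∘ₗ Submodule.subtype _) hm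
  have hq : LinearMap.ker q = (F 0).comap (F (0 + 1)).subtype := by
    ext x
    rw [LinearMap.mem_ker, Submodule.mem_comap, h0, LinearMap.mem_ker]
    exact Subtype.ext_iff
  refine isSubquotient_of_injective ((Submodule.liftQ _ q hq.ge)) ?_ h
  exact LinearMap.ker_eq_bot.1 (Submodule.ker_liftQ_eq_bot _ _ _ hq.le)

end KunnethCxLib
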