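import Groth.Agent.KunnethCxLib.Exact
import Groth.Agent.KunnethCxLib.Subq
import Groth.Agent.KunnethCxLib.Tor
import Groth.Agent.TorDimLib.FlatVanish

/-!
# The filtration of the Künneth spectral sequence
-/

set_option autoImplicit false
universe u

open CategoryTheory CategoryTheory.Limits MonoidalCategory TensorProduct KFlatLib HomologicalComplex

namespace KunnethCxLib

variable {A : Type u} [CommRing A] {L : DRing.Cx A} (hL : DRing.TermwiseFlat L)

/-- The filtration. -/
noncomputable def fp : (p : ℕ) → (M : DRing.Cx A) → (n : ℤ) → Submodule A ((HTor.tensorCx L M).homology n)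
  | 0, M, n => LinearMap.range (Φ L M n)
  | p + 1, M, n => (fp p (K1 M) (n + 1)).comap (conn M hL n)

theorem fp_zero (M : DRing.Cx A) (n : ℤ) : fp hL 0 M n = LinearMap.range (Φ L M n) := rfl

theorem fp_succ (p : ℕ) (M : DRing.Cx A) (n : ℤ) :
    fp hL (p + 1) M n = (fp hL p (K1 M) (n + 1)).comap (conn M hL n) := rfl

variable {bL : ℤ} (hbL : DRing.VanishesAbove L bL) (M : DRing.Cx A) (n : ℤ)

include hbL in
theorem fp_zero_le : fp hL 0 M n ≤ fp hL 1 M n := by
  intro x hx
  rw [fp_zero] at hx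
  have h := (range_Φ_eq_ker_conn M hL hbL n).le hx
  rw [fp_succ, Submodule.mem_comap, LinearMap.mem_ker.1 h]
  exact zero_mem _

include hbL in
theorem fp_le_succ (p : ℕ) : ∀ (M : DRing.Cx A) (n : ℤ), fp hL p M n ≤ fp hL (p + 1) M n := by
  induction p with
  | zero => exact fp_zero_le hL hbL
  | succ p ih =>
    intro M n
    rw [fp_succ, fp_succ]
    exact Submodule.comap_mono (ih (K1 M) (n + 1))

include hbL in
theorem isZero_tensor_X {b : ℤ} {M : DRing.Cx A} (hM : DRing.VanishesAbove M b) {m : ℤ} (hm : bL + b < m) :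
    IsZero ((tT L M).X m) := by
  rw [IsZero.iff_id_eq_zero]
  refine mapBifunctor.hom_ext fun p q h => ?_
  have h' : p + q = m := h
  have hz : IsZero (L.X p ⊗ M.X q) := by
    rcases lt_or_ge bL p with hp | hp
    · exact Functor.map_isZero (tensorRight (M.X q)) (hbL p hp)
    · exact Functor.map_isZero (tensorLeft (L.X p)) (hM q (by omega))
  exact hz.eq_of_src _ _

include hbL in
theorem fp_eq_top {b : ℤ} (p : ℕ) : ∀ (M : DRing.Cx A) (n : ℤ), DRing.VanishesAbove M b → bL + b < n + p →
    fp hL p M n = ⊤ := by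
  induction p with
  | zero =>
    intro M n hM hn
    have hz : IsZero ((tT L M).homology n) :=
      (exactAt_iff_isZero_homology _ _).1 (ShortComplex.exact_of_isZero_X₂ _ (isZero_tensor_X hbL hM (by omega)))
    have hs := ModuleCat.isZero_of_iff_subsingleton.1 hz
    refine eq_top_iff.2 fun x _ => ?_
    rw [fp_zero]
    exact ⟨0, @Subsingleton.elim _ hs _ _⟩
  | succ p ih =>
    intro M n hM hn
    rw [fp, ih (K1 M) (n + 1) (vanishesAbove_K1 M hM) (by push_cast at hn; omega), Submodule.comap_top]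

/-- Reindexing. -/
def idxEquiv {a b : ℤ} {p q : ℕ} (h : a + p = b + q) :
    {ij : ℤ × ℤ // ij.1 + ij.2 - p = a} ≃ {ij : ℤ × ℤ // ij.1 + ij.2 - q = b} :=
  Equiv.subtypeEquivRight fun ij => by omega

theorem nonempty_torSum_shift (p : ℕ) :
    Nonempty (HTor.TorSum L (K1 M) (n + 1) (p + 1) ≃ₗ[A] HTor.TorSum L M n (p + 2)) := by
  classical
  have e : ∀ ij : {ij : ℤ × ℤ // ij.1 + ij.2 - ((p + 2 : ℕ) : ℤ) = n},
      Nonempty (DRing.Tor A (p + 2) (L.homology ij.1.1) (M.homology ij.1.2) ≃ₗ[A]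
        DRing.Tor A (p + 1) (L.homology ij.1.1) ((K1 M).homology ij.1.2)) := fun ij =>
    haveI := flat_homology_P M ij.1.2
    nonempty_shift_succ_right _ _ (homologyMap_incl_injective M ij.1.2) (homologyMap_π_surjective M ij.1.2)
      (exact_incl_π M ij.1.2) _ p
  replace e := fun ij => (e ij).some
  let E := idxEquiv (a := n + 1) (b := n) (p := p + 1) (q := p + 2) (by push_cast; ring)
  exact ⟨(DirectSum.lequivCongrLeft A E).trans (DirectSum.congrLinearEquiv fun ij => (e ij).symm)⟩

/-- The kernel of a map of direct sums given componentwise. -/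
theorem nonempty_ker_lmap {ι : Type} {X Y : ι → Type u} [∀ i, AddCommGroup (X i)] [∀ i, Module A (X i)]
    [∀ i, AddCommGroup (Y i)] [∀ i, Module A (Y i)] (f : ∀ i, X i →ₗ[A] Y i) :
    Nonempty ((DirectSum ι fun i => LinearMap.ker (f i)) ≃ₗ[A] LinearMap.ker (DirectSum.lmap f)) := by
  classical
  let c : (DirectSum ι fun i => LinearMap.ker (f i)) →ₗ[A] DirectSum ι X :=
    DirectSum.lmap fun i => (LinearMap.ker (f i)).subtype
  have hc : Function.Injective c := (DirectSum.lmap_injective _).2 fun i => Subtype.val_injective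
  have hr : LinearMap.range c = LinearMap.ker (DirectSum.lmap f) := by
    refine le_antisymm ?_ fun x hx => ?_
    · rw [LinearMap.range_le_ker_iff, ← DirectSum.lmap_comp]
      refine DirectSum.linearMap_ext A fun i => LinearMap.ext fun y => ?_
      simp only [LinearMap.comp_apply, DirectSum.lmap_lof, LinearMap.zero_apply]
      rw [show f i ((LinearMap.ker (f i)).subtype y) = 0 from y.2, map_zero]
    · have hi : ∀ i, x i ∈ LinearMap.ker (f i) := fun i => by
        rw [LinearMap.mem_ker, ← DirectSum.lmap_apply, LinearMap.mem_ker.1 hx]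
        rfl
      refine ⟨∑ i ∈ x.support, DirectSum.lof A ι (fun i => LinearMap.ker (f i)) i ⟨x i, hi i⟩, ?_⟩
      rw [map_sum]
      refine Eq.trans (Finset.sum_congr rfl fun i _ => DirectSum.lmap_lof _ i _) ?_
      exact DirectSum.sum_support_of x
  exact ⟨(LinearEquiv.ofInjective c hc).trans (LinearEquiv.ofEq _ _ hr)⟩

theorem nonempty_ker_Kmap :
    Nonempty (LinearMap.ker (Kmap L (incl M) (n + 1)) ≃ₗ[A] HTor.TorSum L M n 1) := by
  classical
  have e : ∀ ij : {ij : ℤ × ℤ // ij.1 + ij.2 - ((1 : ℕ) : ℤ) = n},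
      Nonempty (DRing.Tor A 1 (L.homology ij.1.1) (M.homology ij.1.2) ≃ₗ[A]
        LinearMap.ker ((homologyMap (incl M) ij.1.2).hom.lTensor (L.homology ij.1.1 : Type u))) := fun ij =>
    haveI := flat_homology_P M ij.1.2
    nonempty_shift_one_right _ _ (homologyMap_incl_injective M ij.1.2) (homologyMap_π_surjective M ij.1.2)
      (exact_incl_π M ij.1.2) _
  replace e := fun ij => (e ij).some
  obtain ⟨k⟩ := nonempty_ker_lmap fun ij : HTor.Antidiag (n + 1) =>
    (homologyMap (incl M) ij.1.2).hom.lTensor (L.homology ij.1.1 : Type u)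
  let E : HTor.Antidiag (n + 1) ≃ {ij : ℤ × ℤ // ij.1 + ij.2 - ((1 : ℕ) : ℤ) = n} :=
    Equiv.subtypeEquivRight fun ij => by omega
  exact ⟨k.symm.trans ((DirectSum.lequivCongrLeft A E).trans
    (DirectSum.congrLinearEquiv fun ij => (e ij).symm))⟩

include hbL in
theorem isSubquotient_gr (p : ℕ) : ∀ (M : DRing.Cx A) (n : ℤ),
    HTor.IsSubquotient A (HTor.grSucc (fun q => fp hL q M n) p) (HTor.TorSum L M n (p + 1)) := by
  induction p with
  | zero =>
    intro M n
    let W : Submodule A _ := (LinearMap.ker (Kmap L (incl M) (n + 1))).map (Φ L (K1 M) (n + 1))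
    refine isSubquotient_grSucc_zero (conn M hL n) _ W (range_Φ_eq_ker_conn M hL hbL n) ?_ ?_
    · rintro ⟨x, hx⟩
      obtain ⟨t, ht⟩ : conn M hL n x ∈ LinearMap.range (Φ L (K1 M) (n + 1)) := hx
      refine ⟨t, ?_, ht⟩
      refine LinearMap.mem_ker.2 ((Φ_P_bijective M hL hbL (n + 1)).1 ?_)
      rw [map_zero, Φ_natural_apply, ht]
      exact (exact_conn_incl M hL n).apply_apply_eq_zero x
    · obtain ⟨e⟩ := nonempty_ker_Kmap (L := L) M n
      let φ : LinearMap.ker (Kmap L (incl M) (n + 1)) →ₗ[A] W :=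
        LinearMap.codRestrict W (Φ L (K1 M) (n + 1) ∘ₗ Submodule.subtype _) fun x =>
          Submodule.mem_map_of_mem x.2
      have hφ : Function.Surjective φ := by
        rintro ⟨-, t, ht, rfl⟩
        exact ⟨⟨t, ht⟩, rfl⟩
      refine isSubquotient_of_equiv e (isSubquotient_of_surjective
        (φ ∘ₗ Submodule.subtype (⊤ : Submodule A (LinearMap.ker (Kmap L (incl M) (n + 1)))))
        (hφ.comp fun z => ⟨⟨z, Submodule.mem_top⟩, rfl⟩))
  | succ p ih =>
    intro M n
    obtain ⟨e⟩ := nonempty_torSum_shift (L := L) M n p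
    exact isSubquotient_of_equiv e
      (isSubquotient_grSucc_comap (conn M hL n) (fun q => fp hL q M n) (fun q => fp hL q (K1 M) (n + 1)) p
        rfl rfl (ih (K1 M) (n + 1)))

include hL hbL in
/-- The filtration of the Künneth spectral sequence. -/
theorem exists_filtration (bM : ∃ b : ℤ, DRing.VanishesAbove M b) :
    ∃ (N : ℕ) (F : ℕ → Submodule A ((HTor.tensorCx L M).homology n)),
      F 0 = LinearMap.range (Φ L M n) ∧ Monotone F ∧ F N = ⊤ ∧
        ∀ p : ℕ, HTor.IsSubquotient A (HTor.grSucc F p) (HTor.TorSum L M n (p + 1)) := by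
  obtain ⟨b, hb⟩ := bM
  exact ⟨(bL + b + 1 - n).toNat, fun q => fp hL q M n, rfl,
    monotone_nat_of_le_succ fun q => fp_le_succ hL hbL q M n,
    fp_eq_top hL hbL _ M n hb (by omega), fun p => isSubquotient_gr hL hbL p M n⟩

theorem eq_of_subsingleton_gr {H : Type u} [AddCommGroup H] [Module A H] (F : ℕ → Submodule A H)
    (hF : Monotone F) (h : ∀ p, Subsingleton (HTor.grSucc F p)) : ∀ q, F q = F 0
  | 0 => rfl
  | q + 1 => by
    rw [← eq_of_subsingleton_gr F hF h q]
    refine le_antisymm (fun x hx => ?_) (hF (Nat.le_succ q))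
    have := h q
    exact (Submodule.Quotient.mk_eq_zero ((F q).comap (F (q + 1)).subtype)).1
      (Subsingleton.elim (Submodule.Quotient.mk (⟨x, hx⟩ : F (q + 1)) : HTor.grSucc F q) 0)

include hL hbL in
theorem Φ_surjective_of_flat (bM : ∃ b : ℤ, DRing.VanishesAbove M b)
    (hH : ∀ i : ℤ, Module.Flat A (L.homology i)) : Function.Surjective (Φ L M n) := by
  obtain ⟨N, F, h0, hmono, hN, hgr⟩ := exists_filtration hL hbL M n bM
  have hT : ∀ p, Subsingleton (HTor.TorSum L M n (p + 1)) := fun p => by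
    have : ∀ ij : {ij : ℤ × ℤ // ij.1 + ij.2 - ((p + 1 : ℕ) : ℤ) = n},
        Subsingleton (DRing.Tor A (p + 1) (L.homology ij.1.1) (M.homology ij.1.2)) := fun ij => by
      have := hH ij.1.1
      let P := projectiveResolution (ModuleCat.of A (M.homology ij.1.2 : Type u))
      exact TorDimLib.subsingleton_tor_of_exactAtSucc P p (TorDimLib.exactAtSucc_of_flat_left P p)
    exact ⟨fun x y => DFinsupp.ext fun i => Subsingleton.elim (x i) (y i)⟩
  have h := eq_of_subsingleton_gr F hmono (fun p => haveI := hT p; subsingleton_of_isSubquotient (hgr p)) N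
  rw [hN, h0] at h
  exact LinearMap.range_eq_top.1 h.symm

include hL hbL in
theorem Φ_bijective_of_flat (bM : ∃ b : ℤ, DRing.VanishesAbove M b)
    (hH : ∀ i : ℤ, Module.Flat A (L.homology i)) : Function.Bijective (Φ L M n) := by
  refine ⟨?_, Φ_surjective_of_flat hL hbL M n bM hH⟩
  rw [injective_iff_map_eq_zero]
  intro x hx
  obtain ⟨y, rfl⟩ := Kmap_π_surjective (L := L) M n x
  rw [Φ_natural_apply] at hx
  obtain ⟨w, hw⟩ := (exact_tensor_incl_π M hL n (Φ L (P M) n y)).1 hx
  obtain ⟨t, rfl⟩ := Φ_surjective_of_flat hL hbL (K1 M) n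
    (bM.imp fun b hb => vanishesAbove_K1 M hb) hH w
  rw [← Φ_natural_apply] at hw
  rw [← (Φ_P_bijective M hL hbL n).1 hw, Kmap_π_incl]

include hL hbL in
theorem isZero_of_tor_vanishing (bM : ∃ b : ℤ, DRing.VanishesAbove M b)
    (h : ∀ (p : ℕ) (i j : ℤ), i + j - p = n → Subsingleton (DRing.Tor A p (L.homology i) (M.homology j))) :
    IsZero ((HTor.tensorCx L M).homology n) := by
  obtain ⟨N, F, h0, hmono, hN, hgr⟩ := exists_filtration hL hbL M n bM
  have hT : ∀ p, Subsingleton (HTor.TorSum L M n (p + 1)) := fun p => by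
    have := fun ij : {ij : ℤ × ℤ // ij.1 + ij.2 - ((p + 1 : ℕ) : ℤ) = n} => h (p + 1) ij.1.1 ij.1.2 ij.2
    exact ⟨fun x y => DFinsupp.ext fun i => Subsingleton.elim (x i) (y i)⟩
  have hK : Subsingleton (HTor.KunnethSum L M n) := by
    have : ∀ ij : HTor.Antidiag n, Subsingleton ((L.homology ij.1.1 : Type u) ⊗[A] (M.homology ij.1.2 : Type u)) := by
      intro ij
      have := h 0 ij.1.1 ij.1.2 (by simpa using ij.2)
      obtain ⟨e⟩ := TorShiftLib.nonempty_tor_zero (R := A) (M.homology ij.1.2 : Type u) (L.homology ij.1.1 : Type u)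
      exact e.symm.injective.subsingleton
    exact ⟨fun x y => DFinsupp.ext fun i => Subsingleton.elim (x i) (y i)⟩
  have hF0 : F 0 = ⊥ := by
    rw [h0, LinearMap.range_eq_bot]
    exact LinearMap.ext fun x => by rw [Subsingleton.elim x 0, map_zero, map_zero]
  have he := eq_of_subsingleton_gr F hmono (fun p => haveI := hT p; subsingleton_of_isSubquotient (hgr p)) N
  rw [hN, hF0] at he
  refine ModuleCat.isZero_of_iff_subsingleton.2 ⟨fun x y => ?_⟩
  have hx : ∀ x : (HTor.tensorCx L M).homology n, x = 0 := fun x =>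
    (Submodule.mem_bot A).1 (he ▸ Submodule.mem_top)
  rw [hx x, hx y]

end KunnethCxLib
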