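import Groth.Agent.KunnethCxLib.Cls
import Groth.Agent.KFlatLib.AlgMore
import Groth.Prelude.Def_HTor

/-!
# The Künneth map of two complexes of modules
-/

set_option autoImplicit false
universe u

open CategoryTheory CategoryTheory.Limits MonoidalCategory TensorProduct KFlatLib

namespace KunnethCxLib

variable {A : Type u} [CommRing A]
variable (L M : DRing.Cx A)

theorem ιT_d_apply (p q n n' : ℤ) (h : p + q = n) (hn : n + 1 = n') (x : L.X p) (y : M.X q) :
    ((tT L M).d n n').hom ((ιT L M p q n h).hom (x ⊗ₜ[A] y)) =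
      (ιT L M (p + 1) q n' (by omega)).hom ((L.d p (p + 1)).hom x ⊗ₜ[A] y) +
        p.negOnePow • (ιT L M p (q + 1) n' (by omega)).hom (x ⊗ₜ[A] (M.d q (q + 1)).hom y) :=
  ConcreteCategory.congr_hom (ιT_d L M p q n n' h hn) (x ⊗ₜ[A] y)

variable (i j n : ℤ) (h : i + j = n)

/-- The product of two cocycles, in the total complex. -/
noncomputable def preX : Zc L i ⊗[A] Zc M j →ₗ[A] (tT L M).X n :=
  (ιT L M i j n h).hom ∘ₗ TensorProduct.map (Zc L i).subtype (Zc M j).subtype

theorem preX_tmul (x : Zc L i) (y : Zc M j) :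
    preX L M i j n h (x ⊗ₜ[A] y) = (ιT L M i j n h).hom ((x : L.X i) ⊗ₜ[A] (y : M.X j)) :=
  rfl

theorem d_preX (t : Zc L i ⊗[A] Zc M j) : ((tT L M).d n (n + 1)).hom (preX L M i j n h t) = 0 := by
  induction t using TensorProduct.induction_on with
  | zero => simp
  | add s t hs ht => rw [map_add, map_add, hs, ht, add_zero]
  | tmul x y =>
    rw [preX_tmul, ιT_d_apply L M i j n (n + 1) h rfl, LinearMap.mem_ker.1 x.2, LinearMap.mem_ker.1 y.2,
      TensorProduct.zero_tmul, TensorProduct.tmul_zero]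
    simp

/-- The product of two cocycles. -/
noncomputable def pre : Zc L i ⊗[A] Zc M j →ₗ[A] Zc (tT L M) n :=
  LinearMap.codRestrict _ (preX L M i j n h) fun t => LinearMap.mem_ker.2 (d_preX L M i j n h t)

/-- The class of the product of two cocycles. -/
noncomputable def kmap0 : Zc L i ⊗[A] Zc M j →ₗ[A] (tT L M).homology n :=
  cls (tT L M) n ∘ₗ pre L M i j n h

theorem kmap0_left (x : Zc L i) (y : Zc M j) (hx : cls L i x = 0) :
    kmap0 L M i j n h (x ⊗ₜ[A] y) = 0 := by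
  obtain ⟨a, ha⟩ := (cls_eq_zero_iff L (by omega : i - 1 + 1 = i) x).1 hx
  have hn : i - 1 + j = n - 1 := by omega
  refine (cls_eq_zero_iff (tT L M) (by omega : n - 1 + 1 = n) _).2
    ⟨(ιT L M (i - 1) j (n - 1) hn).hom (a ⊗ₜ[A] (y : M.X j)), ?_⟩
  change _ = (ιT L M i j n h).hom ((x : L.X i) ⊗ₜ[A] (y : M.X j))
  rw [ιT_d_apply L M (i - 1) j (n - 1) n hn (by omega), LinearMap.mem_ker.1 y.2, TensorProduct.tmul_zero,
    map_zero, smul_zero, add_zero, ← ha]
  have : ∀ (i' : ℤ) (e : i' = i), (ιT L M i' j n (by omega)).hom ((L.d (i - 1) i').hom a ⊗ₜ[A] (y : M.X j)) =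
      (ιT L M i j n h).hom ((L.d (i - 1) i).hom a ⊗ₜ[A] (y : M.X j)) := by
    rintro i' rfl; rfl
  exact this _ (by omega)

theorem kmap0_right (x : Zc L i) (y : Zc M j) (hy : cls M j y = 0) :
    kmap0 L M i j n h (x ⊗ₜ[A] y) = 0 := by
  obtain ⟨a, ha⟩ := (cls_eq_zero_iff M (by omega : j - 1 + 1 = j) y).1 hy
  have hn : i + (j - 1) = n - 1 := by omega
  refine (cls_eq_zero_iff (tT L M) (by omega : n - 1 + 1 = n) _).2
    ⟨i.negOnePow • (ιT L M i (j - 1) (n - 1) hn).hom ((x : L.X i) ⊗ₜ[A] a), ?_⟩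
  change _ = (ιT L M i j n h).hom ((x : L.X i) ⊗ₜ[A] (y : M.X j))
  have : ∀ (j' : ℤ) (e : j' = j), (ιT L M i j' n (by omega)).hom ((x : L.X i) ⊗ₜ[A] (M.d (j - 1) j').hom a) =
      (ιT L M i j n h).hom ((x : L.X i) ⊗ₜ[A] (M.d (j - 1) j).hom a) := by
    rintro j' rfl; rfl
  rw [Units.smul_def, map_zsmul, ιT_d_apply L M i (j - 1) (n - 1) n hn (by omega), LinearMap.mem_ker.1 x.2,
    TensorProduct.zero_tmul, map_zero, zero_add, this _ (by omega), ← Units.smul_def, smul_smul, Int.units_mul_self,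
    one_smul, ha]

theorem ker_map_cls_le :
    LinearMap.ker (TensorProduct.map (cls L i) (cls M j)) ≤ LinearMap.ker (kmap0 L M i j n h) := by
  rw [TensorProduct.map_ker (LinearMap.exact_subtype_ker_map (cls L i)) (cls_surjective L i)
    (LinearMap.exact_subtype_ker_map (cls M j)) (cls_surjective M j), sup_le_iff,
    LinearMap.range_le_ker_iff, LinearMap.range_le_ker_iff]
  exact ⟨TensorProduct.ext' fun x y => kmap0_right L M i j n h _ _ y.2,
    TensorProduct.ext' fun x y => kmap0_left L M i j n h _ _ x.2⟩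

theorem map_cls_surjective : Function.Surjective (TensorProduct.map (cls L i) (cls M j)) :=
  TensorProduct.map_surjective (cls_surjective L i) (cls_surjective M j)

/-- A component of the Künneth map. -/
noncomputable def kcomp : (L.homology i : Type u) ⊗[A] (M.homology j : Type u) →ₗ[A] (tT L M).homology n :=
  (Submodule.liftQ _ (kmap0 L M i j n h) (ker_map_cls_le L M i j n h)) ∘ₗ
    (LinearMap.quotKerEquivOfSurjective _ (map_cls_surjective L M i j)).symm.toLinearMap

theorem kcomp_map (t : Zc L i ⊗[A] Zc M j) :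
    kcomp L M i j n h (TensorProduct.map (cls L i) (cls M j) t) = kmap0 L M i j n h t := by
  have e : (LinearMap.quotKerEquivOfSurjective _ (map_cls_surjective L M i j)).symm
      (TensorProduct.map (cls L i) (cls M j) t) = Submodule.Quotient.mk t := by
    rw [LinearEquiv.symm_apply_eq]
    rfl
  exact congrArg (Submodule.liftQ _ (kmap0 L M i j n h) (ker_map_cls_le L M i j n h)) e

theorem kcomp_tmul (x : Zc L i) (y : Zc M j) :
    kcomp L M i j n h (cls L i x ⊗ₜ[A] cls M j y) = cls (tT L M) n (pre L M i j n h (x ⊗ₜ[A] y)) :=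
  kcomp_map L M i j n h (x ⊗ₜ[A] y)

variable {L M}

/-- The Künneth map. -/
noncomputable def Φ (L M : DRing.Cx A) (n : ℤ) :
    HTor.KunnethSum L M n →ₗ[A] (HTor.tensorCx L M).homology n :=
  DirectSum.toModule A (HTor.Antidiag n) _ fun ij => kcomp L M ij.1.1 ij.1.2 n ij.2

theorem Φ_lof (ij : HTor.Antidiag n) (t : (L.homology ij.1.1 : Type u) ⊗[A] (M.homology ij.1.2 : Type u)) :
    Φ L M n (DirectSum.lof A (HTor.Antidiag n) _ ij t) = kcomp L M ij.1.1 ij.1.2 n ij.2 t :=
  DirectSum.toModule_lof (φ := fun ij : HTor.Antidiag n => kcomp L M ij.1.1 ij.1.2 n ij.2) A ij t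

theorem isKunnethMap_Φ (L M : DRing.Cx A) (n : ℤ) : HTor.IsKunnethMap L M n (Φ L M n) := by
  intro ij z z' w hw
  rw [Φ_lof, homologyπ_eq_cls, homologyπ_eq_cls, kcomp_tmul, homologyπ_eq_cls]
  exact congrArg (cls _ n) (Subtype.ext hw.symm)

/-- The map induced on Künneth sums by a map of the second complex. -/
noncomputable def Kmap (L : DRing.Cx A) {M M' : DRing.Cx A} (g : M ⟶ M') (n : ℤ) :
    HTor.KunnethSum L M n →ₗ[A] HTor.KunnethSum L M' n :=
  DirectSum.lmap fun ij : HTor.Antidiag n =>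
    (HomologicalComplex.homologyMap g ij.1.2).hom.lTensor (L.homology ij.1.1 : Type u)

theorem Φ_natural (L : DRing.Cx A) {M M' : DRing.Cx A} (g : M ⟶ M') (n : ℤ) :
    Φ L M' n ∘ₗ Kmap L g n = (HomologicalComplex.homologyMap (tMap (𝟙 L) g) n).hom ∘ₗ Φ L M n := by
  refine DirectSum.linearMap_ext A fun ij => TensorProduct.ext' fun a b => ?_
  obtain ⟨x, rfl⟩ := cls_surjective L _ a
  obtain ⟨y, rfl⟩ := cls_surjective M _ b
  simp only [LinearMap.comp_apply, Kmap, DirectSum.lmap_lof, Φ_lof, LinearMap.lTensor_tmul, homologyMap_cls,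
    kcomp_tmul]
  refine congrArg (cls _ n) (Subtype.ext ?_)
  exact (ConcreteCategory.congr_hom (ιT_tMap (𝟙 L) g ij.1.1 ij.1.2 n ij.2) ((x : L.X _) ⊗ₜ[A] (y : M.X _))).symm

theorem Φ_natural_apply (L : DRing.Cx A) {M M' : DRing.Cx A} (g : M ⟶ M') (n : ℤ) (t : HTor.KunnethSum L M n) :
    Φ L M' n (Kmap L g n t) = (HomologicalComplex.homologyMap (tMap (𝟙 L) g) n).hom (Φ L M n t) :=
  LinearMap.congr_fun (Φ_natural L g n) t

end KunnethCxLib
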